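/-
The Sylow 2-subgroups of transitive groups of fixity 2.
-/
import Cfsg.Agent.Lib.TwoGroups.CentFour
import Cfsg.Agent.Lib.TwoGroups.CyclicMax
import Mathlib.GroupTheory.Perm.Cycle.Type
import Mathlib.GroupTheory.Nilpotent
import Mathlib.GroupTheory.SpecificGroups.KleinFour
import Mathlib.GroupTheory.Sylow
import Cfsg.Prelude.Def_Solvable

set_option linter.unusedSectionVars false
set_option linter.style.haveILetI false

namespace Cfsg.Agent.FixityTwo

open MulAction
open scoped Pointwise

/-- A permutation whose moved points all have exact period `o`. -/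
theorem sign_eq_of_period {α : Type*} [Fintype α] [DecidableEq α] (σ : Equiv.Perm α) {o : ℕ}
    (ho : 0 < o) (hpow : σ ^ o = 1)
    (hper : ∀ x ∈ σ.support, ∀ i : ℕ, (σ ^ i) x = x → o ∣ i) :
    Equiv.Perm.sign σ = (-1) ^ (σ.support.card + σ.support.card / o) := by
  have hall : ∀ n ∈ σ.cycleType, n = o := by
    intro n hn
    refine Nat.dvd_antisymm
      ((Equiv.Perm.dvd_of_mem_cycleType hn).trans (orderOf_dvd_of_pow_eq_one hpow)) ?_
    obtain ⟨c, τ, rfl, hdis, hc, hcard⟩ := Equiv.Perm.mem_cycleType_iff.1 hn
    obtain ⟨x, hx⟩ : c.support.Nonempty := hc.nonempty_support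
    have hτx : τ x = x := (hdis x).resolve_left (Equiv.Perm.mem_support.1 hx)
    have hmem : x ∈ (c * τ).support := by
      rw [Equiv.Perm.mem_support, Equiv.Perm.mul_apply, hτx]
      exact Equiv.Perm.mem_support.1 hx
    refine hper x hmem n ?_
    rw [hdis.commute.mul_pow, Equiv.Perm.mul_apply,
      Equiv.Perm.pow_apply_eq_self_of_apply_eq_self hτx, ← hcard, ← hc.orderOf,
      pow_orderOf_eq_one, Equiv.Perm.one_apply]
  have hrep := Multiset.eq_replicate_card.2 hall
  have hs := σ.sum_cycleType
  rw [hrep, Multiset.sum_replicate, smul_eq_mul] at hs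
  rw [Equiv.Perm.sign_of_cycleType, σ.sum_cycleType, ← hs, Nat.mul_div_cancel _ ho]

theorem two_prime : Fact (Nat.Prime 2) := ⟨Nat.prime_two⟩

variable {G : Type*} [Group G] [Finite G] {Ω : Type*} [Fintype Ω] [MulAction G Ω]

/-- A subgroup acting semiregularly on an invariant set has order dividing its size. -/
theorem card_dvd_of_semiregular (C : Subgroup G) (X : Set Ω)
    (hinv : ∀ c ∈ C, ∀ x ∈ X, c • x ∈ X) (hfree : ∀ c ∈ C, ∀ x ∈ X, c • x = x → c = 1) :
    Nat.card C ∣ Nat.card X := by
  classical
  letI : MulAction C X :=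
    { smul := fun c x => ⟨(c : G) • (x : Ω), hinv c c.2 x x.2⟩
      one_smul := fun x => Subtype.ext (one_smul G (x : Ω))
      mul_smul := fun a b x => Subtype.ext (mul_smul (a : G) (b : G) (x : Ω)) }
  haveI : Finite X := inferInstance
  haveI := Fintype.ofFinite (orbitRel.Quotient C X)
  have h : ∀ x : X, Nat.card (orbit C x) = Nat.card C := by
    intro x
    have hs : stabilizer C x = ⊥ := by
      rw [Subgroup.eq_bot_iff_forall]
      intro c hc
      exact Subtype.ext (hfree c c.2 x x.2 (congrArg Subtype.val (hc : c • x = x)))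
    rw [Nat.card_congr (orbitEquivQuotientStabilizer C x), ← Subgroup.index_eq_card, hs,
      Subgroup.index_bot]
  rw [Nat.card_congr (selfEquivSigmaOrbits C X), Nat.card_sigma,
    Finset.sum_congr rfl (fun q _ => h _)]
  simp

variable [FaithfulSMul G Ω] (hfix : ∀ g : G, g ≠ 1 → Nat.card (fixedBy Ω g) ≤ 2)

include hfix

theorem eq_or_eq_of_fix {g : G} (hg : g ≠ 1) {a b c : Ω} (hab : a ≠ b) (ha : g • a = a)
    (hb : g • b = b) (hc : g • c = c) : c = a ∨ c = b := by
  classical
  by_contra h
  rw [not_or] at h
  have hsub : ({a, b, c} : Set Ω) ⊆ fixedBy Ω g := by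
    rintro x (rfl | rfl | rfl) <;> assumption
  have h3 : ({a, b, c} : Set Ω).ncard = 3 :=
    Set.ncard_eq_three.2 ⟨a, b, c, hab, Ne.symm h.1, Ne.symm h.2, rfl⟩
  have := Set.ncard_le_ncard hsub
  have h2 := hfix g hg
  rw [Nat.card_coe_set_eq] at h2
  omega

/-- The Frobenius group of index two. -/
theorem frobenius_of_normal (htr : IsPretransitive G Ω) (S : Sylow 2 G) (α : Ω) (N : Subgroup G)
    (hidx : N.index = 2) (hNS : ∀ s ∈ (S : Subgroup G), (s ∈ N ↔ s • α = α))
    (hS : (S : Subgroup G) ⊓ stabilizer G α ≠ ⊥) (heven : Even (Fintype.card Ω)) :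
    ∃ H : Subgroup ↥N, Cfsg.IsFrobeniusComplement H := by
  classical
  haveI := two_prime
  haveI : N.Normal := Subgroup.normal_of_index_eq_two hidx
  set m := ((stabilizer G α).subgroupOf N).index with hmdef
  have hm : Odd m := by
    set T := ((S : Subgroup G) ⊓ N).subgroupOf N with hT
    have hle : T ≤ (stabilizer G α).subgroupOf N := fun x hx =>
      (hNS _ (Subgroup.mem_inf.1 hx).1).1 (Subgroup.mem_inf.1 hx).2
    refine Odd.of_dvd_nat ?_ (Subgroup.index_dvd_of_le hle)
    have h2 : ¬ 2 ∣ (S : Subgroup G).index := S.not_dvd_index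
    rw [← Nat.not_even_iff_odd, even_iff_two_dvd]
    intro hd
    apply h2
    set I := (S : Subgroup G) ⊓ N with hI
    have e1 : Nat.card I * T.index = Nat.card N := by
      rw [← Nat.card_congr (Subgroup.subgroupOfEquivOfLe (inf_le_right : I ≤ N)).toEquiv]
      exact Subgroup.card_mul_index _
    have e2 : Nat.card I * (I.relIndex (S : Subgroup G)) = Nat.card (S : Subgroup G) := by
      rw [← Nat.card_congr (Subgroup.subgroupOfEquivOfLe (inf_le_left : I ≤ (S : Subgroup G))).toEquiv]
      exact Subgroup.card_mul_index _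
    have e3 : I.relIndex (S : Subgroup G) ∣ 2 := by
      rw [hI, inf_comm, Subgroup.inf_relIndex_right]
      exact (Subgroup.relIndex_dvd_index_of_normal _ _).trans (dvd_of_eq hidx)
    have e4 : Nat.card (S : Subgroup G) * (S : Subgroup G).index = Nat.card N * 2 := by
      rw [Subgroup.card_mul_index, ← N.card_mul_index, hidx]
    rw [← e1, ← e2, mul_assoc, mul_assoc] at e4
    have e5 := Nat.eq_of_mul_eq_mul_left Nat.card_pos e4
    obtain ⟨c, hc⟩ := hd
    rw [hc] at e5
    rcases (Nat.dvd_prime Nat.prime_two).1 e3 with h | h <;> rw [h] at e5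
    · exact ⟨c * 2, by omega⟩
    · exact ⟨c, by omega⟩
  set A := orbit N α with hA
  have hAcard : Nat.card A = m := by
    rw [Nat.card_congr (orbitEquivQuotientStabilizer N α), ← Subgroup.index_eq_card]
    rfl
  -- point stabilisers lie in `N`
  have hne : A ≠ Set.univ := by
    intro h
    rw [h, Nat.card_univ, Nat.card_eq_fintype_card] at hAcard
    exact Nat.not_odd_iff_even.2 heven (hAcard ▸ hm)
  have hGα : stabilizer G α ≤ N := by
    intro g hg
    by_contra hgN
    refine hne (Set.eq_univ_of_forall fun x => ?_)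
    obtain ⟨h, rfl⟩ := htr.exists_smul_eq α x
    by_cases hh : h ∈ N
    · exact ⟨⟨h, hh⟩, rfl⟩
    · refine ⟨⟨h * g, (Subgroup.mul_mem_iff_of_index_two hidx).2 (iff_of_false hh hgN)⟩, ?_⟩
      show (h * g) • α = h • α
      rw [mul_smul, mem_stabilizer_iff.1 hg]
  obtain ⟨s₀, hs₀⟩ : ∃ s, s ∉ N := by
    by_contra h
    push Not at h
    rw [show N = ⊤ from (Subgroup.eq_top_iff' N).2 h, Subgroup.index_top] at hidx
    omega
  have hmemA : ∀ {g : G}, g • α ∈ A ↔ g ∈ N := by
    intro g
    refine ⟨?_, fun h => ⟨⟨g, h⟩, rfl⟩⟩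
    rintro ⟨⟨n, hn⟩, hne'⟩
    have h1 : n⁻¹ * g ∈ stabilizer G α := by
      have he : n • α = g • α := hne'
      rw [mem_stabilizer_iff, mul_smul, ← he, inv_smul_smul]
    simpa using N.mul_mem hn (hGα h1)
  have hBcard : Nat.card ↥(Aᶜ : Set Ω) = m := by
    rw [← hAcard]
    refine (Nat.card_congr (Equiv.subtypeEquiv (MulAction.toPerm s₀) fun x => ?_)).symm
    obtain ⟨h, rfl⟩ := htr.exists_smul_eq α x
    show h • α ∈ A ↔ s₀ • h • α ∈ Aᶜ
    rw [Set.mem_compl_iff, ← mul_smul, hmemA, hmemA, Subgroup.mul_mem_iff_of_index_two hidx]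
    tauto
  have hm1 : m ≠ 1 := by
    intro h1
    obtain ⟨t', ht'⟩ := Subgroup.ne_bot_iff_exists_ne_one.1 hS
    obtain ⟨t, ht, ht1⟩ : ∃ t : G, t ∈ (S : Subgroup G) ⊓ stabilizer G α ∧ t ≠ 1 :=
      ⟨(t' : G), t'.2, fun h => ht' (Subtype.ext h)⟩
    have htα : t • α = α := mem_stabilizer_iff.1 (Subgroup.mem_inf.1 ht).2
    refine ht1 (FaithfulSMul.eq_of_smul_eq_smul (α := Ω) fun x => ?_)
    rw [one_smul]
    by_cases hx : x ∈ A
    · obtain rfl : x = α := by
        have hsub : Subsingleton A := (Nat.card_eq_one_iff_unique.1 (hAcard.trans h1)).1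
        exact congrArg Subtype.val (hsub.elim ⟨x, hx⟩ ⟨α, mem_orbit_self α⟩)
      exact htα
    · have hsub : Subsingleton ↥(Aᶜ : Set Ω) :=
        (Nat.card_eq_one_iff_unique.1 (hBcard.trans h1)).1
      have htx : t • x ∈ (Aᶜ : Set Ω) := by
        obtain ⟨h, rfl⟩ := htr.exists_smul_eq α x
        rw [hmemA] at hx
        rw [Set.mem_compl_iff, ← mul_smul, hmemA, Subgroup.mul_mem_iff_of_index_two hidx]
        simp [hGα (Subgroup.mem_inf.1 ht).2, hx]
      exact congrArg Subtype.val (hsub.elim ⟨t • x, htx⟩ ⟨x, hx⟩)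
  refine ⟨(stabilizer G α).subgroupOf N, ?_, ?_, ?_⟩
  · intro h
    rw [Subgroup.subgroupOf_eq_bot, disjoint_iff, inf_eq_left.2 hGα] at h
    exact hS (by rw [h, inf_bot_eq])
  · intro h
    exact hm1 (by rw [hmdef, h, Subgroup.index_top])
  · intro g hg
    rw [Subgroup.eq_bot_iff_forall]
    intro x hx
    obtain ⟨hx1, hx2⟩ := Subgroup.mem_inf.1 hx
    rw [Subgroup.mem_pointwise_smul_iff_inv_smul_mem] at hx2
    set γ := (g : G) • α with hγ
    have hγα : γ ≠ α := fun h => hg (mem_stabilizer_iff.2 h)
    have hxα : (x : G) • α = α := mem_stabilizer_iff.1 hx1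
    have hxγ : (x : G) • γ = γ := by
      have h : ((g : G)⁻¹ * x * g) • α = α := by
        have := mem_stabilizer_iff.1 (Subgroup.mem_subgroupOf.1 hx2)
        simpa [MulAut.smul_def] using this
      rw [hγ, ← mul_smul]
      rw [mul_assoc, mul_smul, inv_smul_eq_iff] at h
      exact h
    set C := stabilizer G α ⊓ stabilizer G γ with hC
    have hCfree : ∀ c ∈ C, ∀ y : Ω, y ≠ α → y ≠ γ → c • y = y → c = 1 := by
      intro c hc y hyα hyγ hy
      by_contra hc1
      rcases eq_or_eq_of_fix hfix hc1 hγα.symm (mem_stabilizer_iff.1 (Subgroup.mem_inf.1 hc).1)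
        (mem_stabilizer_iff.1 (Subgroup.mem_inf.1 hc).2) hy with h | h
      exacts [hyα h, hyγ h]
    have hinvA : ∀ c ∈ C, ∀ y : Ω, (c • y ∈ A ↔ y ∈ A) := by
      intro c hc y
      obtain ⟨h, rfl⟩ := htr.exists_smul_eq α y
      rw [← mul_smul, hmemA, hmemA, Subgroup.mul_mem_cancel_left _ (hGα (Subgroup.mem_inf.1 hc).1)]
    have hγA : γ ∈ A := hmemA.2 g.2
    have h1 : Nat.card C ∣ m := by
      rw [← hBcard]
      refine card_dvd_of_semiregular C _ (fun c hc y hy h => hy ((hinvA c hc y).1 h))
        fun c hc y hy h => hCfree c hc y (fun e => hy (e ▸ mem_orbit_self α))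
          (fun e => hy (e ▸ hγA)) h
    have h2 : Nat.card C ∣ m - 2 := by
      have he : Nat.card ↥(A \ {α, γ}) = m - 2 := by
        rw [Nat.card_coe_set_eq, Set.ncard_sdiff (by
          rintro y (rfl | rfl)
          exacts [mem_orbit_self _, hγA]), Set.ncard_pair hγα.symm, ← Nat.card_coe_set_eq, hAcard]
      rw [← he]
      refine card_dvd_of_semiregular C _ (fun c hc y hy => ?_)
        fun c hc y hy h => hCfree c hc y (fun e => hy.2 (Or.inl e)) (fun e => hy.2 (Or.inr e)) h
      refine ⟨(hinvA c hc y).2 hy.1, ?_⟩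
      rintro (e | e)
      · exact hy.2 (Or.inl (MulAction.injective c
          (e.trans (mem_stabilizer_iff.1 (Subgroup.mem_inf.1 hc).1).symm)))
      · exact hy.2 (Or.inr (MulAction.injective c
          (e.trans (mem_stabilizer_iff.1 (Subgroup.mem_inf.1 hc).2).symm)))
    have hcard : Nat.card C = 1 := by
      have h3 : 2 ≤ m := by rcases hm with ⟨k, hk⟩; omega
      have h4 : Nat.card C ∣ 2 := by
        have := Nat.dvd_sub h1 h2
        rwa [show m - (m - 2) = 2 by omega] at this
      rcases (Nat.dvd_prime Nat.prime_two).1 h4 with h | h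
      · exact h
      · exact absurd (h ▸ h1) (fun hd => Nat.not_even_iff_odd.2 hm (even_iff_two_dvd.2 hd))
    have hxC : (x : G) ∈ C := Subgroup.mem_inf.2 ⟨hxα, hxγ⟩
    rw [Subgroup.eq_bot_of_card_eq C hcard, Subgroup.mem_bot] at hxC
    exact Subtype.ext hxC

/-- The trichotomy. -/
theorem sylow_cases (htr : IsPretransitive G Ω) (α : Ω) (S : Sylow 2 G) :
    (S : Subgroup G) ⊓ stabilizer G α = ⊥ ∨
    (((∃ n : ℕ, Nonempty (↥(S : Subgroup G) ≃* DihedralGroup n)) ∨
        Cfsg.IsQuasiDihedral ↥(S : Subgroup G)) ∧
       (Nat.card ↥((S : Subgroup G) ⊓ stabilizer G α) = 2 ∨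
        ((S : Subgroup G) ⊓ stabilizer G α).relIndex (S : Subgroup G) = 2)) ∨
    (4 ≤ Nat.card (S : Subgroup G) ∧
       (∃ ω : Ω, Nat.card (orbit ↥(S : Subgroup G) ω) = 2 ∧
          ∀ ω' : Ω, ω' ∉ orbit ↥(S : Subgroup G) ω →
            Nat.card (orbit ↥(S : Subgroup G) ω') = Nat.card (S : Subgroup G)) ∧
       ∃ N : Subgroup G, N.Normal ∧ (N.index = 2 ∨ N.index = Nat.card (S : Subgroup G)) ∧
        (∃ H : Subgroup ↥N, Cfsg.IsFrobeniusComplement H)) ∨
    (S : Subgroup G) ≤ stabilizer G α := by
  classical
  haveI := two_prime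
  haveI : Fintype G := Fintype.ofFinite G
  set P := (S : Subgroup G) with hPdef
  by_cases hbot : P ⊓ stabilizer G α = ⊥
  · exact Or.inl hbot
  by_cases htop : P ≤ stabilizer G α
  · exact Or.inr (Or.inr (Or.inr htop))
  have hP2 : IsPGroup 2 P := S.isPGroup'
  set T := stabilizer P α with hT
  have hTeq : T = (P ⊓ stabilizer G α).subgroupOf P := by
    rw [Subgroup.inf_subgroupOf_left]; rfl
  have hTcard : Nat.card ↥(P ⊓ stabilizer G α) = Nat.card T := by
    rw [hTeq]
    exact (Nat.card_congr (Subgroup.subgroupOfEquivOfLe inf_le_left).toEquiv).symm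
  have hTidx : (P ⊓ stabilizer G α).relIndex P = T.index := by rw [hTeq]; rfl
  have hTne : T ≠ ⊥ := fun h => hbot (Subgroup.eq_bot_of_card_eq _ (by
    rw [hTcard, h, Subgroup.card_bot]))
  have hTlt : T < ⊤ := lt_top_iff_ne_top.2 fun h => htop fun x hx =>
    (h ▸ Subgroup.mem_top (⟨x, hx⟩ : P) : (⟨x, hx⟩ : P) ∈ T)
  haveI : Group.IsNilpotent P := hP2.isNilpotent
  obtain ⟨r, hrN, hrT⟩ := SetLike.exists_of_lt (Group.normalizerCondition_of_isNilpotent T hTlt)
  set β := (r : G) • α with hβ
  have hβα : β ≠ α := fun h => hrT h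
  have hTβ : ∀ t : P, t ∈ T → (t : G) • β = β := by
    intro t ht
    have h : r⁻¹ * t * r ∈ T := by
      have := (Subgroup.mem_normalizer_iff''.1 hrN t).1 ht
      exact this
    have h' : ((r : G)⁻¹ * t * r) • α = α := h
    rw [mul_assoc, mul_smul, inv_smul_eq_iff] at h'
    rw [hβ, ← mul_smul]
    exact h'
  obtain ⟨t₀, ht₀, ht₀1⟩ : ∃ t : P, t ∈ T ∧ t ≠ 1 := by
    obtain ⟨t, ht⟩ := Subgroup.ne_bot_iff_exists_ne_one.1 hTne
    exact ⟨t, t.2, fun h => ht (Subtype.ext h)⟩
  have hfixT : ∀ t : P, t ∈ T → t ≠ 1 → ∀ ω : Ω, (t : G) • ω = ω → ω = α ∨ ω = β :=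
    fun t ht ht1 ω hω => eq_or_eq_of_fix hfix (fun h => ht1 (Subtype.ext h)) hβα.symm
      (ht : (t : G) • α = α) (hTβ t ht) hω
  -- the stabiliser of the pair
  set R := Subgroup.normalizer (T : Set P) with hR
  have hRimg : ∀ s : P, s ∈ R → (s : G) • α = α ∨ (s : G) • α = β := by
    intro s hs
    have h : s⁻¹ * t₀ * s ∈ T := (Subgroup.mem_normalizer_iff''.1 hs t₀).1 ht₀
    have h' : ((s : G)⁻¹ * t₀ * s) • α = α := h
    rw [mul_assoc, mul_smul, inv_smul_eq_iff, mul_smul] at h'
    exact hfixT t₀ ht₀ ht₀1 _ h'
  have hTR : T ≤ R := Subgroup.le_normalizer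
  have hcoset : ∀ a b : P, (a : G) • α = β → (b : G) • α = β → a⁻¹ * b ∈ T := by
    intro a b ha hb
    show ((a : G)⁻¹ * b) • α = α
    rw [mul_smul, hb, ← ha, inv_smul_smul]
  by_cases hindex : T.index = 2
  · -- index two
    haveI : T.Normal := Subgroup.normal_of_index_eq_two hindex
    have himg : ∀ s : P, (s : G) • α = α ∨ (s : G) • α = β := fun s =>
      hRimg s (by rw [hR, Subgroup.normalizer_eq_top]; exact Subgroup.mem_top s)
    have hcardP : Nat.card P = Nat.card T * 2 := by rw [← hindex, Subgroup.card_mul_index]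
    have hT2 : 2 ≤ Nat.card T := Finite.one_lt_card_iff_nontrivial.2
      ((Subgroup.nontrivial_iff_ne_bot T).2 hTne)
    by_cases hu : ∃ u : P, u ≠ 1 ∧ ∃ ω : Ω, ω ≠ α ∧ ω ≠ β ∧ (u : G) • ω = ω
    · obtain ⟨u, hu1, ω, hωα, hωβ, huω⟩ := hu
      have huT : ∀ v : P, (v : G) • ω = ω → v ∈ T → v = 1 := fun v hv hvT => by
        by_contra h
        rcases hfixT v hvT h ω hv with e | e
        exacts [hωα e, hωβ e]
      have hu2 : u * u = 1 := huT (u * u) (by
        rw [Subgroup.coe_mul, mul_smul, huω, huω])
        (Subgroup.mul_self_mem_of_index_two hindex u)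
      have huo : orderOf u = 2 := orderOf_eq_prime (by rw [pow_two]; exact hu2) hu1
      set Cu := Subgroup.centralizer ({u} : Set P) with hCu
      have hstab : ∀ v : P, (v : G) • ω = ω → v = 1 ∨ v = u := by
        intro v hv
        by_cases hvT : v ∈ T
        · exact Or.inl (huT v hv hvT)
        · refine Or.inr ?_
          have hiv : u⁻¹ * v = 1 := huT (u⁻¹ * v) (by
            rw [Subgroup.coe_mul, mul_smul, hv, Subgroup.coe_inv, inv_smul_eq_iff, huω])
            ((Subgroup.mul_mem_iff_of_index_two hindex).2 (iff_of_false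
              (fun h => hu1 (huT u huω (inv_mem_iff.1 h))) hvT))
          exact (inv_mul_eq_one.1 hiv).symm
      have hCle : Nat.card Cu ≤ 4 := by
        let f : Cu → fixedBy Ω (u : G) := fun c => ⟨((c : P) : G) • ω, by
          show (u : G) • ((c : P) : G) • ω = ((c : P) : G) • ω
          have e : (u : G) * ((c : P) : G) = ((c : P) : G) * u :=
            congrArg Subtype.val (Subgroup.mem_centralizer_singleton_iff.1 c.2).symm
          rw [← mul_smul, e, mul_smul, huω]⟩
        haveI := Fintype.ofFinite Cu
        haveI := Fintype.ofFinite (fixedBy Ω (u : G))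
        have hfib : ∀ y ∈ Finset.univ.image f,
            (Finset.univ.filter fun c => f c = y).card ≤ 2 := by
          intro y hy
          obtain ⟨c₀, -, rfl⟩ := Finset.mem_image.1 hy
          refine le_trans (Finset.card_le_card
            (t := ({c₀, c₀ * ⟨u, Subgroup.mem_centralizer_singleton_iff.2 rfl⟩} : Finset Cu))
            fun c hc => ?_) Finset.card_le_two
          have hc' := congrArg Subtype.val (Finset.mem_filter.1 hc).2
          simp only [f] at hc'
          have hv : (((c₀ : P)⁻¹ * (c : P) : P) : G) • ω = ω := by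
            rw [Subgroup.coe_mul, mul_smul, hc', Subgroup.coe_inv, inv_smul_smul]
          rcases hstab _ hv with e | e
          · rw [inv_mul_eq_one] at e
            simp [Subtype.ext e.symm]
          · rw [inv_mul_eq_iff_eq_mul] at e
            simp only [Finset.mem_insert, Finset.mem_singleton]
            exact Or.inr (Subtype.ext e)
        have := Finset.card_le_mul_card_image (f := f) Finset.univ 2 hfib
        rw [Finset.card_univ, ← Nat.card_eq_fintype_card] at this
        have h2 := hfix (u : G) (fun h => hu1 (Subtype.ext h))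
        have h3 := (Finset.univ.image f).card_le_univ
        rw [← Nat.card_eq_fintype_card] at h3
        omega
      have hC4 : Nat.card Cu = 4 := by
        obtain ⟨k, hk⟩ := IsPGroup.iff_card.1 (hP2.to_subgroup Cu)
        have h2 : 2 ∣ Nat.card Cu := huo ▸ Subgroup.orderOf_dvd_natCard Cu
          (Subgroup.mem_centralizer_singleton_iff.2 rfl)
        have hne2 : Nat.card Cu ≠ 2 := by
          intro hc
          haveI : Nontrivial P := ⟨⟨u, 1, hu1⟩⟩
          haveI := hP2.center_nontrivial
          obtain ⟨z, hz⟩ := exists_ne (1 : Subgroup.center P)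
          have hzp : Subgroup.zpowers u = Cu := Subgroup.eq_of_le_of_card_ge
            (Subgroup.zpowers_le.2 (Subgroup.mem_centralizer_singleton_iff.2 rfl))
            (by rw [Nat.card_zpowers, huo, hc])
          have hzC : (z : P) ∈ Cu := Subgroup.mem_centralizer_singleton_iff.2
            (Subgroup.mem_center_iff.1 z.2 u).symm
          rw [← hzp] at hzC
          obtain ⟨k, hk⟩ := Subgroup.mem_zpowers_iff.1 hzC
          have hzu : (z : P) = u := by
            rcases Int.even_or_odd' k with ⟨j, rfl | rfl⟩
            · refine absurd (Subtype.ext ?_) hz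
              rw [← hk, zpow_mul, zpow_two, hu2, one_zpow]; rfl
            · rw [← hk, zpow_add, zpow_mul, zpow_two, hu2, one_zpow, one_mul, zpow_one]
          have htopC : Cu = ⊤ := by
            rw [eq_top_iff]
            intro s _
            rw [hCu, Subgroup.mem_centralizer_singleton_iff, ← hzu]
            exact Subgroup.mem_center_iff.1 z.2 s
          rw [htopC, Subgroup.card_top] at hc
          omega
        rcases k with _ | _ | _ | k
        · rw [hk] at h2; norm_num at h2
        · exact absurd hk hne2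
        · exact hk
        · rw [hk] at hCle
          exact absurd ((Nat.pow_le_pow_right (n := 2) two_pos
            (show 3 ≤ k + 1 + 1 + 1 by omega)).trans hCle) (by norm_num)
      refine Or.inr (Or.inl ⟨?_, Or.inr (hTidx.trans hindex)⟩)
      rcases CentFour.dihedral_or_quasiDihedral hP2 huo hC4 with h | h | h
      · exact Or.inl h
      · exact Or.inr h
      · left
        have hT2' : Nat.card T = 2 := by omega
        have ht2 : t₀ * t₀ = 1 := by
          have h1 : (⟨t₀, ht₀⟩ : T) ^ Nat.card T = 1 := pow_card_eq_one'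
          rw [hT2', pow_two] at h1
          exact congrArg Subtype.val h1
        have hne3 : u ≠ t₀ := fun e => hu1 (huT u huω (e ▸ ht₀))
        haveI : IsKleinFour P := by
          have hexp : ∀ x : P, x ^ 2 = 1 := by
            intro x
            have h4 : orderOf x ∣ 2 ^ 2 := by
              have h4' := orderOf_dvd_natCard x
              rw [h] at h4'
              exact h4'
            obtain ⟨k, hk2, hk⟩ := (Nat.dvd_prime_pow Nat.prime_two).1 h4
            rcases Nat.lt_or_ge k 2 with hk' | hk'
            · rw [← orderOf_dvd_iff_pow_eq_one, hk]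
              exact Nat.pow_dvd_pow 2 (show k ≤ 1 by omega)
            · exfalso
              have hg4 : orderOf x = 4 := by rw [hk, show k = 2 by omega]; rfl
              have htop' : Subgroup.zpowers x = ⊤ :=
                Subgroup.eq_top_of_card_eq _ (by rw [Nat.card_zpowers, hg4, h])
              have key : ∀ v : P, v ≠ 1 → v * v = 1 → v = x * x := by
                intro v hv1 hv2
                have hxx : x * x ≠ 1 := by
                  rw [← pow_two]
                  exact pow_ne_one_of_lt_orderOf two_ne_zero (by omega)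
                rcases TwoFus.order_four_cases hg4 (htop' ▸ Subgroup.mem_top v) with e | e | e | e
                · exact absurd e hv1
                · exact absurd (e ▸ hv2) hxx
                · exact e
                · rw [e, ← _root_.mul_inv_rev, inv_eq_one] at hv2
                  exact absurd hv2 hxx
              exact hne3 ((key u hu1 hu2).trans (key t₀ ht₀1 ht2).symm)
          refine ⟨h, ?_⟩
          refine ((Nat.dvd_prime Nat.prime_two).1
            (Monoid.exponent_dvd_of_forall_pow_eq_one hexp)).resolve_left ?_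
          intro he
          exact hu1 (by simpa using Monoid.pow_exponent_eq_one u ▸ (he ▸ pow_one u).symm)
        exact ⟨2, IsKleinFour.nonempty_mulEquiv⟩
    · -- one orbit of length two, all others regular
      push Not at hu
      refine Or.inr (Or.inr (Or.inl ⟨by omega, ?_, ?_⟩))
      · refine ⟨α, ?_, fun ω hω => ?_⟩
        · rw [Nat.card_congr (orbitEquivQuotientStabilizer P α), ← Subgroup.index_eq_card]
          exact hindex
        · have hωα : ω ≠ α := fun e => hω (by rw [e]; exact mem_orbit_self α)
          have hωβ : ω ≠ β := fun e => hω (by rw [e]; exact mem_orbit α r)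
          have hs : stabilizer P ω = ⊥ := by
            rw [Subgroup.eq_bot_iff_forall]
            intro v hv
            by_contra hv1
            exact hu v hv1 ω hωα hωβ hv
          rw [Nat.card_congr (orbitEquivQuotientStabilizer P ω), ← Subgroup.index_eq_card, hs,
            Subgroup.index_bot]
      -- the parity map
      have hfree : ∀ c ∈ P, ∀ x ∈ ({α, β} : Set Ω)ᶜ, c • x = x → c = 1 := by
        intro c hc x hx h
        by_contra hc1
        exact hu ⟨c, hc⟩ (fun e => hc1 (congrArg Subtype.val e)) x (fun e => hx (Or.inl e))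
          (fun e => hx (Or.inr e)) h
      have hswap : ∀ s : P, s ∉ T → (s : G) • α = β ∧ (s : G) • β = α := by
        intro s hs
        have h1 : (s : G) • α = β := (himg s).resolve_left hs
        refine ⟨h1, ?_⟩
        have h2 : s * r ∈ T := (Subgroup.mul_mem_iff_of_index_two hindex).2 (iff_of_false hs hrT)
        have h2' : ((s : G) * r) • α = α := h2
        rw [mul_smul] at h2'
        exact h2'
      have hpresF : ∀ c ∈ P, ∀ x ∈ ({α, β} : Set Ω)ᶜ, c • x ∈ ({α, β} : Set Ω)ᶜ := by
        intro c hc x hx h
        apply hx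
        by_cases hcT : (⟨c, hc⟩ : P) ∈ T
        · rcases h with e | e
          · exact Or.inl (MulAction.injective c (e.trans (hcT : c • α = α).symm))
          · exact Or.inr (MulAction.injective c (e.trans (hTβ ⟨c, hc⟩ hcT).symm))
        · obtain ⟨e1, e2⟩ := hswap ⟨c, hc⟩ hcT
          rcases h with e | e
          · exact Or.inr (MulAction.injective c (e.trans e2.symm))
          · exact Or.inl (MulAction.injective c (e.trans e1.symm))
      have hFc : Nat.card ↥(({α, β} : Set Ω)ᶜ) + 2 = Fintype.card Ω := by
        rw [Nat.card_coe_set_eq, ← Nat.card_eq_fintype_card,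
          ← Set.ncard_add_ncard_compl ({α, β} : Set Ω), Set.ncard_pair hβα.symm]
        ring
      have hPdvd := card_dvd_of_semiregular P _ hpresF hfree
      have heven : Even (Fintype.card Ω) := by
        have h : 2 ∣ Nat.card ↥(({α, β} : Set Ω)ᶜ) :=
          (hcardP ▸ dvd_mul_left 2 _ : 2 ∣ Nat.card P).trans hPdvd
        rw [← hFc]
        exact (even_iff_two_dvd.2 h).add even_two
      suffices hex : ∃ φ : G →* ℤˣ, (∀ s : P, s ∈ T → φ s = 1) ∧ ∀ s : P, s ∉ T → φ s = -1 by
        obtain ⟨φ, hφ1, hφ2⟩ := hex
        have hidx : φ.ker.index = 2 := by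
          rw [Subgroup.index_eq_two_iff]
          refine ⟨r, fun b => ?_⟩
          have hr : φ (r : G) = -1 := hφ2 r hrT
          rcases Int.units_eq_one_or (φ b) with e | e <;>
            simp [MonoidHom.mem_ker, map_mul, hr, e, Xor]
        refine ⟨φ.ker, inferInstance, Or.inl hidx, ?_⟩
        refine frobenius_of_normal hfix htr S α φ.ker hidx (fun s hs => ?_) hbot heven
        constructor
        · intro h
          by_contra h'
          have := hφ2 ⟨s, hs⟩ h'
          rw [show φ s = 1 from h] at this
          exact absurd this (by decide)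
        · intro h; exact hφ1 ⟨s, hs⟩ h
      by_cases hcyc : IsCyclic P
      · -- the regular representation
        refine ⟨(Equiv.Perm.sign).comp (MulAction.toPermHom G G), ?_⟩
        obtain ⟨g, hg⟩ := IsCyclic.exists_ofOrder_eq_natCard (α := P)
        have hgen : ((Equiv.Perm.sign).comp (MulAction.toPermHom G G)) (g : G) = -1 := by
          show Equiv.Perm.sign (MulAction.toPermHom G G (g : G)) = -1
          set σ := MulAction.toPermHom G G (g : G) with hσ
          have hσpow : ∀ (i : ℕ) (x : G), (σ ^ i) x = (g : G) ^ i * x := by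
            intro i x
            rw [hσ, ← map_pow]; rfl
          have hog : orderOf (g : G) = Nat.card P := by rw [Subgroup.orderOf_coe, hg]
          have hsupp : σ.support = Finset.univ := by
            rw [Finset.eq_univ_iff_forall]
            intro x
            rw [Equiv.Perm.mem_support]
            intro h
            have : (g : G) * x = x := h
            rw [mul_eq_right, ← orderOf_eq_one_iff, hog] at this
            omega
          rw [sign_eq_of_period σ (o := Nat.card P) Nat.card_pos
            (Equiv.ext fun x => by rw [hσpow, ← hog, pow_orderOf_eq_one, one_mul]; rfl)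
            (fun x _ i hi => by
              rw [hσpow, mul_eq_right] at hi
              exact hog ▸ orderOf_dvd_of_pow_eq_one hi), hsupp, Finset.card_univ,
            ← Nat.card_eq_fintype_card, ← P.card_mul_index]
          rw [Nat.mul_div_cancel_left _ Nat.card_pos]
          refine Odd.neg_one_pow ?_
          refine Even.add_odd ((even_iff_two_dvd.2 (hcardP ▸ dvd_mul_left 2 _)).mul_right _) ?_
          rw [← Nat.not_even_iff_odd, even_iff_two_dvd]
          exact S.not_dvd_index
        have hgT : g ∉ T := by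
          intro h
          refine hrT ?_
          have htp : Subgroup.zpowers g = ⊤ :=
            Subgroup.eq_top_of_card_eq _ (by rw [Nat.card_zpowers, hg])
          exact Subgroup.zpowers_le.2 h (htp ▸ Subgroup.mem_top r)
        set φ := (Equiv.Perm.sign).comp (MulAction.toPermHom G G) with hφ
        have hgen' : φ (g : G) = -1 := hgen
        have hval : ∀ s : P, (s ∈ T → φ s = 1) ∧ (s ∉ T → φ s = -1) := by
          intro s
          obtain ⟨k, hk⟩ := Subgroup.mem_zpowers_iff.1
            ((Subgroup.eq_top_of_card_eq (Subgroup.zpowers g) (by rw [Nat.card_zpowers, hg])) ▸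
              Subgroup.mem_top s)
          have hsq : g ^ 2 ∈ T := by rw [pow_two]; exact Subgroup.mul_self_mem_of_index_two hindex g
          rcases Int.even_or_odd' k with ⟨j, rfl | rfl⟩
          · have hs : s ∈ T := by rw [← hk, zpow_mul]; exact T.zpow_mem (mod_cast hsq) j
            refine ⟨fun _ => ?_, fun h => absurd hs h⟩
            rw [← hk, Subgroup.coe_zpow, map_zpow, hgen', zpow_mul]
            simp
          · have hs : s ∉ T := by
              rw [← hk, zpow_add, zpow_mul, zpow_one]
              intro h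
              exact hgT ((mul_mem_cancel_left (T.zpow_mem (mod_cast hsq) j)).1 h)
            refine ⟨fun h => absurd h hs, fun _ => ?_⟩
            rw [← hk, Subgroup.coe_zpow, map_zpow, hgen', zpow_add, zpow_mul]
            simp
        exact ⟨fun s => (hval s).1, fun s => (hval s).2⟩
      · -- the action on the points
        refine ⟨(Equiv.Perm.sign).comp (MulAction.toPermHom G Ω), ?_⟩
        have hkey : ∀ (s : P) (σ : Equiv.Perm Ω), σ α = α → σ β = β →
            (∀ x ∈ ({α, β} : Set Ω)ᶜ, σ x = (s : G) • x) → s ≠ 1 → Equiv.Perm.sign σ = 1 := by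
          intro s σ hσα hσβ hσ hs1
          have hpow : ∀ (i : ℕ), ∀ x ∈ ({α, β} : Set Ω)ᶜ, (σ ^ i) x = (s : G) ^ i • x := by
            intro i
            induction i with
            | zero => intro x _; simp
            | succ i ih =>
              intro x hx
              rw [pow_succ, Equiv.Perm.mul_apply, hσ x hx, ih _ (hpresF _ s.2 x hx), ← mul_smul,
                ← pow_succ]
          have hfixed : ∀ x : Ω, x ∉ ({α, β} : Set Ω)ᶜ → σ x = x := by
            intro x hx
            rcases not_not.1 hx with rfl | rfl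
            exacts [hσα, hσβ]
          have hsupp : (σ.support : Set Ω) = ({α, β} : Set Ω)ᶜ := by
            ext x
            rw [Finset.mem_coe, Equiv.Perm.mem_support]
            refine ⟨fun h => by_contra fun hx => h (hfixed x hx), fun hx h => ?_⟩
            rw [hσ x hx] at h
            exact hs1 (Subtype.ext (hfree _ s.2 x hx h))
          rw [sign_eq_of_period σ (o := orderOf s) (orderOf_pos s)]
          · have hN : σ.support.card = Nat.card ↥(({α, β} : Set Ω)ᶜ) := by
              rw [Nat.card_coe_set_eq, ← hsupp, Set.ncard_coe_finset]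
            rw [hN]
            have h2 : 2 * orderOf s ∣ Nat.card P := by
              have hne : orderOf s ≠ Nat.card P := fun h =>
                hcyc (isCyclic_of_orderOf_eq_card s h)
              obtain ⟨k, hk⟩ := IsPGroup.iff_card.1 hP2
              obtain ⟨j, hj, hj'⟩ := (Nat.dvd_prime_pow Nat.prime_two).1
                (hk ▸ orderOf_dvd_natCard s)
              rw [hk, hj', ← pow_succ']
              refine Nat.pow_dvd_pow 2 ?_
              rcases lt_or_eq_of_le hj with h | h
              · exact h
              · exact absurd (by rw [hj', h, hk]) hne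
            obtain ⟨q, hq⟩ := h2.trans hPdvd
            rw [hq, show 2 * orderOf s * q / orderOf s = 2 * q from by
              rw [show 2 * orderOf s * q = orderOf s * (2 * q) by ring,
                Nat.mul_div_cancel_left _ (orderOf_pos s)]]
            exact Even.neg_one_pow ⟨orderOf s * q + q, by ring⟩
          · ext x
            by_cases hx : x ∈ ({α, β} : Set Ω)ᶜ
            · rw [hpow _ x hx, ← Subgroup.coe_pow, pow_orderOf_eq_one, OneMemClass.coe_one,
                one_smul, Equiv.Perm.one_apply]
            · rw [Equiv.Perm.pow_apply_eq_self_of_apply_eq_self (hfixed x hx)]; rfl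
          · intro x hx i hi
            have hx' : x ∈ ({α, β} : Set Ω)ᶜ := hsupp ▸ (Finset.mem_coe.2 hx)
            rw [hpow i x hx', ← Subgroup.coe_pow] at hi
            exact orderOf_dvd_of_pow_eq_one (Subtype.ext (hfree _ (s ^ i).2 x hx' hi))
        refine ⟨fun s hs => ?_, fun s hs => ?_⟩
        · by_cases hs1 : s = 1
          · rw [hs1, OneMemClass.coe_one, map_one]
          · exact hkey s _ (hs : (s : G) • α = α) (hTβ s hs) (fun x _ => rfl) hs1
        · obtain ⟨e1, e2⟩ := hswap s hs
          set σ := MulAction.toPermHom G Ω (s : G) with hσ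
          have h : Equiv.Perm.sign (Equiv.swap α β * σ) = 1 := by
            refine hkey s _ ?_ ?_ ?_ (fun e => hs (e ▸ T.one_mem))
            · show Equiv.swap α β ((s : G) • α) = α
              rw [e1, Equiv.swap_apply_right]
            · show Equiv.swap α β ((s : G) • β) = β
              rw [e2, Equiv.swap_apply_left]
            · intro x hx
              have := hpresF _ s.2 x hx
              exact Equiv.swap_apply_of_ne_of_ne (fun e => this (Or.inl e))
                (fun e => this (Or.inr e))
          rw [map_mul, Equiv.Perm.sign_swap hβα.symm, neg_one_mul, neg_eq_iff_eq_neg] at h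
          exact h
  · -- the pair stabiliser is proper
    have hRne : R ≠ ⊤ := by
      intro h
      refine hindex ?_
      rw [Subgroup.index_eq_two_iff]
      refine ⟨r, fun b => ?_⟩
      rcases hRimg b (h ▸ Subgroup.mem_top b) with e | e
      · refine Or.inr ⟨e, fun hb => hrT ?_⟩
        simpa using T.mul_mem (T.inv_mem (e : b ∈ T)) hb
      · refine Or.inl ⟨?_, fun hb => hβα (e.symm.trans hb)⟩
        rcases hRimg (b * r) (h ▸ Subgroup.mem_top _) with e' | e'
        · exact e'
        · exfalso
          refine hrT ?_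
          simpa using hcoset b (b * r) e e'
    obtain ⟨q, hqN, hqR⟩ :=
      SetLike.exists_of_lt (Group.normalizerCondition_of_isNilpotent R (lt_top_iff_ne_top.2 hRne))
    have hqF : (q : G) • α ≠ α ∧ (q : G) • α ≠ β := by
      constructor
      · intro e
        exact hqR (hTR e)
      · intro e
        refine hqR ?_
        have hm := hcoset r q rfl e
        simpa using R.mul_mem hrN (hTR hm)
    have hconj : ∀ t : P, t ∈ T → t ≠ 1 → q * t * q⁻¹ ∉ T := by
      intro t ht ht1 hmem
      have h1 : ((q * t * q⁻¹ : P) : G) • ((q : G) • α) = (q : G) • α := by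
        simp only [Subgroup.coe_mul, Subgroup.coe_inv]
        have e : (t : G) • α = α := ht
        rw [← mul_smul, inv_mul_cancel_right, mul_smul, e]
      have h2 : q * t * q⁻¹ ≠ 1 := fun e => ht1 (conj_eq_one_iff.1 e)
      rcases hfixT _ hmem h2 _ h1 with e | e
      exacts [hqF.1 e, hqF.2 e]
    have himgR : ∀ t : P, t ∈ T → t ≠ 1 → ((q * t * q⁻¹ : P) : G) • α = β := by
      intro t ht ht1
      exact (hRimg _ ((Subgroup.mem_normalizer_iff.1 hqN t).1 (hTR ht))).resolve_left
        (hconj t ht ht1)
    have hTone : ∀ t : P, t ∈ T → t ≠ 1 → t = t₀ := by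
      intro t ht ht1
      by_contra hne
      have hmem : q * (t₀⁻¹ * t) * q⁻¹ ∈ T := by
        have := hcoset _ _ (himgR t₀ ht₀ ht₀1) (himgR t ht ht1)
        rwa [show (q * t₀ * q⁻¹)⁻¹ * (q * t * q⁻¹) = q * (t₀⁻¹ * t) * q⁻¹ by group] at this
      exact hconj _ (T.mul_mem (T.inv_mem ht₀) ht) (fun e => hne (inv_mul_eq_one.1 e).symm) hmem
    have hT2 : Nat.card T = 2 := by
      rw [Nat.card_eq_two_iff]
      refine ⟨⟨t₀, ht₀⟩, 1, fun e => ht₀1 (congrArg Subtype.val e), ?_⟩
      ext x
      simp only [Set.mem_univ, iff_true, Set.mem_insert_iff, Set.mem_singleton_iff]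
      by_cases hx : (x : P) = 1
      · exact Or.inr (Subtype.ext hx)
      · exact Or.inl (Subtype.ext (hTone x x.2 hx))
    have ht0o : orderOf t₀ = 2 := orderOf_eq_prime (by
      have h1 : (⟨t₀, ht₀⟩ : T) ^ Nat.card T = 1 := pow_card_eq_one'
      rw [hT2] at h1
      exact congrArg Subtype.val h1) ht₀1
    have hCR : Subgroup.centralizer ({t₀} : Set P) = R := by
      ext s
      rw [Subgroup.mem_centralizer_singleton_iff]
      constructor
      · intro hs
        rw [Subgroup.mem_normalizer_iff]
        intro x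
        have hfixs : s * t₀ * s⁻¹ = t₀ := by rw [hs, mul_inv_cancel_right]
        refine ⟨fun hx => ?_, fun hx => ?_⟩
        · by_cases hx1 : x = 1
          · subst hx1; simp [T.one_mem]
          · rw [hTone x hx hx1, hfixs]; exact ht₀
        · by_cases hx1 : x = 1
          · subst hx1; exact T.one_mem
          · have hh := hTone _ hx (fun e => hx1 (conj_eq_one_iff.1 e))
            have : x = t₀ := by
              calc x = s⁻¹ * (s * x * s⁻¹) * s := by group
                _ = s⁻¹ * (t₀ * s) := by rw [hh]; group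
                _ = t₀ := by rw [← hs]; group
            exact this ▸ ht₀
      · intro hs
        have hh := hTone _ ((Subgroup.mem_normalizer_iff.1 hs t₀).1 ht₀)
          (fun e => ht₀1 (conj_eq_one_iff.1 e))
        calc s * t₀ = (s * t₀ * s⁻¹) * s := by group
          _ = t₀ * s := by rw [hh]
    have hR4 : Nat.card R = 4 := by
      have hi : (T.subgroupOf R).index = 2 := by
        rw [Subgroup.index_eq_two_iff]
        refine ⟨⟨r, hrN⟩, fun b => ?_⟩
        rcases hRimg b b.2 with e | e
        · refine Or.inr ⟨e, fun hb => hrT ?_⟩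
          simpa using T.mul_mem (T.inv_mem (e : (b : P) ∈ T)) hb
        · refine Or.inl ⟨?_, fun hb => hβα (e.symm.trans hb)⟩
          rcases hRimg _ (b * ⟨r, hrN⟩ : R).2 with e' | e'
          · exact e'
          · exfalso
            refine hrT ?_
            simpa using hcoset b (b * ⟨r, hrN⟩ : R) e e'
      rw [← (T.subgroupOf R).card_mul_index, hi,
        Nat.card_congr (Subgroup.subgroupOfEquivOfLe hTR).toEquiv, hT2]
    refine Or.inr (Or.inl ⟨?_, Or.inl (hTcard.trans hT2)⟩)
    rcases CentFour.dihedral_or_quasiDihedral hP2 ht0o (hCR.symm ▸ hR4) with h | h | h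
    · exact Or.inl h
    · exact Or.inr h
    · exact absurd (Subgroup.eq_top_of_card_eq R (hR4.trans h.symm)) hRne

end Cfsg.Agent.FixityTwo
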